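import Cfsg.Agent.Spor.U693.S.D0

set_option autoImplicit false
set_option maxRecDepth 100000000
set_option Elab.async false

namespace Cfsg.Agent.Spor.U693.S

theorem gr4 : sub M3 (U.growI W2 [3, 4, 7, 8, 6, 5, 3, 2, 3, 7, 8, 6, 3, 2, 7, 3] (Nat.shiftLeft 1 10)) = true := by decide +kernel

theorem sd6 : U.sends [5, 3, 7, 5] 0 10 = true := by decide +kernel

theorem gr7 : sub (ones 693) (U.growI ([5, 3, 7, 5] :: W2) [0, 4, 5, 8, 9, 7, 6, 4, 3, 0, 4, 5, 6, 7, 8, 9, 7, 6, 4, 3, 0] (Nat.shiftLeft 1 0)) = true := by decide +kernel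

theorem gr10 : sub M9 (U.growI W2 [1, 2, 3, 4, 5, 6, 7, 8, 6, 5, 3, 2, 4, 7, 8, 6, 5, 3, 4] (Nat.shiftLeft 1 1)) = true := by decide +kernel

theorem sd12 : U.sends [5] 0 1 = true := by decide +kernel

theorem gr13 : sub (ones 693) (U.growI ([5] :: W2) [0, 2, 3, 4, 5, 6, 7, 8, 9, 7, 6, 4, 3, 0, 2, 3, 4, 5, 6, 7, 8, 9, 7, 6, 4] (Nat.shiftLeft 1 0)) = true := by decide +kernel

theorem ff15 : U.fixFrom 10 693 1 = true := by decide +kernel

theorem ff16 : U.fixFrom 10 693 3 = true := by decide +kernel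

theorem ff17 : U.fixFrom 10 693 5 = true := by decide +kernel

theorem ff18 : U.fixFrom 10 693 7 = true := by decide +kernel

theorem ff19 : U.fixFrom 10 693 9 = true := by decide +kernel

theorem ff20 : U.fixFrom 10 693 11 = true := by decide +kernel

theorem ff21 : U.fixFrom 10 693 13 = true := by decide +kernel

theorem ff22 : U.fixFrom 10 693 15 = true := by decide +kernel

theorem ff23 : U.fixFrom 10 693 17 = true := by decide +kernel

end Cfsg.Agent.Spor.U693.S
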