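import Cfsg.Agent.Spor.Chk2
import Cfsg.Agent.Spor.U693.D0

set_option autoImplicit false
set_option maxRecDepth 100000000
set_option Elab.async false
noncomputable section

namespace Cfsg.Agent.Spor.U693.S

def W1 : List (List Nat) := [[1], [3], [5], [7], [9], [11], [13], [15], [17]]

def W2 : List (List Nat) := [[1], [3], [7], [9], [11], [13], [15], [17], [19]]

def M3 : Nat := nat_lit 0x201821310c000001e000c00700301800010478040001c00041300072e00000f000045e0dde000000180009f7f300004002c0060007ff600040c0007e0201ff00001c080ff083f9000fe187c0e601e31c2c0e444242400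

def M9 : Nat := nat_lit 0x1dfe7decef3fffffe1fff3ff8ffcfe7fffefb87fbfffe3fffbecfff8d1fffff0ffffba1f221ffffffe7fff6080cffffbffd3ff9fff8009fffbf3fff81fdfe00ffffe3f7f00f7c06fff01e783f19fe1ce3d3f1bbbdbdbfe

def U : Tab := ⟨[n0, n1, n2, n3, n4, n5, n6, n7, n8, n9], [⟨0, false, 0, 0, []⟩, ⟨0, false, 0, 0, []⟩, ⟨0, true, 0, 0, []⟩, ⟨1, false, 0, 0, []⟩, ⟨1, true, 0, 0, []⟩, ⟨2, false, 0, 0, []⟩, ⟨2, true, 0, 0, []⟩, ⟨3, false, 0, 0, []⟩, ⟨3, true, 0, 0, []⟩, ⟨4, false, 0, 0, []⟩, ⟨4, true, 0, 0, []⟩, ⟨5, false, 0, 0, []⟩, ⟨5, true, 0, 0, []⟩, ⟨6, false, 0, 0, []⟩, ⟨6, true, 0, 0, []⟩, ⟨7, false, 0, 0, []⟩, ⟨7, true, 0, 0, []⟩, ⟨8, false, 0, 0, []⟩, ⟨8, true, 0, 0, []⟩, ⟨9, false, 0, 0, []⟩, ⟨9, true, 0, 0, []⟩]⟩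

end Cfsg.Agent.Spor.U693.S
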